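import Mathlib
import Cfsg.Agent.Lib.L2Sq.A
import Cfsg.Agent.Lib.Core.PCore
import Cfsg.Agent.Lib.Core.MinNormal
import Cfsg.Agent.Lib.Core.CoprimeSylow
import Cfsg.Agent.S0205
import Cfsg.Agent.S0018

/-! Groups of order dividing `|L₂(p²)|` with a self-centralising Sylow `p`-subgroup. -/

set_option autoImplicit false
set_option linter.unusedSectionVars false
set_option linter.style.haveILetI false

namespace H15.L2S

open Subgroup Cfsg

variable {G : Type*} [Group G] [Finite G] {p a : ℕ}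

theorem cong [Fact p.Prime] {Y S : Subgroup G} (hY : IsPGroup p Y)
    (hn : Y ≤ normalizer (S : Set G)) :
    Nat.card S ≡ Nat.card ↥(S ⊓ centralizer (Y : Set G)) [MOD p] := by
  let φ : Y →* MulAut S := S.normalizerMonoidHom.comp (Subgroup.inclusion hn)
  let _ : MulAction Y S := MulAction.compHom S φ
  have h := hY.card_modEq_card_fixedPoints S
  have e : Nat.card (MulAction.fixedPoints Y S) = Nat.card ↥(S ⊓ centralizer (Y : Set G)) := by
    refine Nat.card_congr ⟨fun x => ⟨x.1.1, x.1.2, fun y hy => ?_⟩,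
      fun x => ⟨⟨x.1, x.2.1⟩, fun y => Subtype.ext ?_⟩, fun _ => rfl, fun _ => rfl⟩
    · have := congrArg Subtype.val (x.2 ⟨y, hy⟩)
      exact mul_inv_eq_iff_eq_mul.1 this
    · exact mul_inv_eq_iff_eq_mul.2 (x.2.2 y y.2)
  rwa [e] at h

theorem solv4 (h : ¬ 4 ∣ Nat.card G) : Group.IsSolvable G := by
  by_cases h2 : 2 ∣ Nat.card G
  swap
  · exact Cfsg.Agent.S0205.result (Nat.odd_iff.2 (by omega))
  haveI := Fact.mk Nat.prime_two
  obtain ⟨P⟩ : Nonempty (Sylow 2 G) := inferInstance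
  obtain ⟨n, hn⟩ := P.isPGroup'.exists_card_eq
  have h3 : n ≤ 1 := by
    by_contra h4
    exact h ((pow_dvd_pow 2 (show 2 ≤ n by omega)).trans (hn ▸ card_subgroup_dvd_card _))
  have hc : IsCyclic (P : Subgroup G) := isCyclic_of_card_dvd_prime (p := 2) (by
    rw [hn]; simpa using pow_dvd_pow 2 h3)
  have hN := hc.normalizer_le_centralizer (by rw [Nat.minFac_eq, if_pos h2])
  have := Cfsg.Agent.S0205.result (G := (MonoidHom.transferSylow P hN).ker)
    (Nat.odd_iff.2 (by have := MonoidHom.not_dvd_card_ker_transferSylow P hN; omega))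
  have := P.isPGroup'.isNilpotent
  exact Group.isSolvable_of_ker_le_range (MonoidHom.transferSylow P hN).ker.subtype
    (MonoidHom.transferSylow P hN) (by simp)

theorem mem_of_ord {T : Subgroup G} [T.Normal] (hp : p.Prime) (h : ¬ p ∣ T.index) {z : G}
    (hz : orderOf z = p) : z ∈ T := by
  rw [← QuotientGroup.eq_one_iff, ← orderOf_eq_one_iff]
  have h1 : orderOf (QuotientGroup.mk' T z) ∣ p := hz ▸ orderOf_map_dvd _ _
  rcases (Nat.dvd_prime hp).1 h1 with h2 | h2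
  · exact h2
  · exact absurd (h2 ▸ orderOf_dvd_natCard (QuotientGroup.mk' T z)) h

theorem simple_of_once (hp : p.Prime) {M : Subgroup G} (h : H3.IsMinNormal M)
    (h1 : p ∣ Nat.card M) (h2 : ¬ p ^ 2 ∣ Nat.card M) : IsSimpleGroup M := by
  haveI := Fact.mk hp
  have := h.normal
  have := h.nontrivial
  refine ⟨fun T hT => ?_⟩
  by_cases h3 : p ∣ Nat.card T
  · right
    have h4 : ¬ p ∣ T.index := fun h4 => h2 (by
      rw [← T.card_mul_index, sq]; exact mul_dvd_mul h3 h4)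
    obtain ⟨y, hy, oy⟩ := H1.exists_mem_orderOf_eq_prime hp h1
    have h5 : y ∈ (T.map M.subtype).normalCore := fun g =>
      ⟨⟨g * y * g⁻¹, h.normal.conj_mem y hy g⟩, mem_of_ord hp h4 (by
        rw [← Subgroup.orderOf_coe, ← oy]; exact (MulAut.conj g).orderOf_eq y), rfl⟩
    rcases h.eq_bot_or_eq _ (normalCore_normal _) ((normalCore_le _).trans (map_subtype_le T))
      with h6 | h6
    · rw [h6, mem_bot] at h5
      rw [h5, orderOf_one] at oy
      exact absurd oy hp.one_lt.ne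
    · rw [eq_top_iff]
      intro x _
      obtain ⟨z, hz, e⟩ := normalCore_le _ (h6.ge x.2)
      rwa [← Subtype.ext e]
  · left
    rcases h.eq_bot_or_top_of_characteristic (pPrimeCore p M) with h4 | h4
    · exact le_bot_iff.1 (h4 ▸ H1.le_pPrimeCore_of_not_dvd h3)
    · exact absurd (by rwa [h4, card_top]) (H1.not_dvd_card_pPrimeCore (p := p) (G := M))

/-- the order divides `|L₂(p²)|`, and the subgroups of order `p²` are self-centralising -/
structure Q0 (G : Type*) [Group G] (p a : ℕ) : Prop where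
  e : p = 2 * a + 1
  a3 : 3 ≤ a
  dv : Nat.card G ∣ p ^ 2 * mm a
  p2 : p ^ 2 ∣ Nat.card G
  self : ∀ S : Subgroup G, Nat.card S = p ^ 2 → centralizer (S : Set G) ≤ S

variable [hp : Fact p.Prime]

theorem comm {S : Subgroup G} (hS : Nat.card S = p ^ 2) {u v : G} (hu : u ∈ S) (hv : v ∈ S) :
    u * v = v * u :=
  congrArg Subtype.val ((IsPGroup.isMulCommutative_of_card_eq_prime_sq hS).is_comm.comm
    (⟨u, hu⟩ : S) ⟨v, hv⟩)

theorem ncop {K : Subgroup G} (hK : ¬ p ∣ Nat.card K) {S : Subgroup G} (hS : IsPGroup p S) :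
    K ⊓ S = ⊥ := by
  obtain ⟨n, hn⟩ := hS.exists_card_eq
  exact (disjoint_of_coprime_natCard
    (hn ▸ ((Nat.Prime.coprime_iff_not_dvd hp.out).2 hK).symm.pow_right n)).eq_bot

theorem not_dvd_succ : ¬ p ∣ p + 1 := fun h =>
  hp.out.one_lt.ne' (Nat.dvd_one.1 ((Nat.dvd_add_right (dvd_refl p)).1 h))

theorem gen2 {P X W : Subgroup G} (hP : Nat.card P = p ^ 2) (hX : Nat.card X = p) (h1 : X ≤ W)
    (h2 : X ≤ P) {v : G} (hv : v ∈ P) (hW : v ∈ W) (hvX : v ∉ X) : P ≤ W := by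
  obtain ⟨i, hi, e⟩ := (Nat.dvd_prime_pow hp.out).1 (hP ▸ card_dvd_of_le (inf_le_right : W ⊓ P ≤ P))
  have h3 := H1.card_lt_of_lt (lt_of_le_of_ne (le_inf h1 h2) fun e => hvX (e.ge ⟨hW, hv⟩))
  rw [hX, e] at h3
  have h4 : i = 2 := by
    have := hp.out.one_lt
    interval_cases i <;> simp_all
  exact inf_eq_right.1 (eq_of_le_of_card_ge inf_le_right (by rw [hP, e, h4]))

theorem triv_mod {P X : Subgroup G} (hP : Nat.card P = p ^ 2) (hX : Nat.card X = p) (h2 : X ≤ P)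
    {n : G} (hn : n ∈ normalizer (P : Set G)) (h1 : ∀ w ∈ X, n * w * n⁻¹ ∈ X) {v : G} (hv : v ∈ P)
    (hvX : v ∉ X) (h3 : v⁻¹ * (n * v * n⁻¹) ∈ X) {w : G} (hw : w ∈ P) :
    w⁻¹ * (n * w * n⁻¹) ∈ X := by
  have cj : ∀ {u}, u ∈ P → n * u * n⁻¹ ∈ P := fun hu => (mem_normalizer_iff.1 hn _).1 hu
  let W : Subgroup G :=
    { carrier := {w | w ∈ P ∧ w⁻¹ * (n * w * n⁻¹) ∈ X}
      one_mem' := ⟨one_mem _, by simp⟩
      mul_mem' := fun {x y} hx hy => ⟨mul_mem hx.1 hy.1, by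
        have := mul_mem hx.2 hy.2
        rw [← mul_assoc, comm hP (mul_mem (inv_mem hx.1) (cj hx.1)) (inv_mem hy.1)] at this
        convert this using 1
        group⟩
      inv_mem' := fun {x} hx => ⟨inv_mem hx.1, by
        have := inv_mem hx.2
        rw [mul_inv_rev, comm hP (inv_mem (cj hx.1)) (inv_mem (inv_mem hx.1))] at this
        convert this using 1
        group⟩ }
  exact (gen2 (W := W) hP hX (fun x hx => ⟨h2 hx, mul_mem (inv_mem hx) (h1 x hx)⟩) h2 hv ⟨hv, h3⟩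
    hvX hw).2

namespace Q0

variable (h : Q0 G p a)
include h

theorem not3 : ¬ p ^ 3 ∣ Nat.card G := fun h1 => by
  have h2 : p ^ 2 * p ∣ p ^ 2 * mm a := (pow_succ p 2 ▸ h1).trans h.dv
  exact hp.out.one_lt.ne' (Nat.Coprime.eq_one_of_dvd (cop h.e)
    (Nat.dvd_of_mul_dvd_mul_left (pow_pos hp.out.pos 2) h2))

theorem cP (P : Sylow p G) : Nat.card (P : Subgroup G) = p ^ 2 := by
  obtain ⟨n, hn⟩ := P.isPGroup'.exists_card_eq
  have h1 := P.pow_dvd_card_of_pow_dvd_card h.p2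
  rw [hn, Nat.pow_dvd_pow_iff_le_right hp.out.one_lt] at h1
  have h2 : n ≤ 2 := by
    by_contra h4
    exact h.not3 ((pow_dvd_pow p (show 3 ≤ n by omega)).trans (hn ▸ card_subgroup_dvd_card _))
  rw [hn, le_antisymm h2 h1]

theorem syl {S : Subgroup G} (hS : Nat.card S = p ^ 2) : ∃ P : Sylow p G, (P : Subgroup G) = S := by
  obtain ⟨P, hP⟩ := (IsPGroup.of_card hS).exists_le_sylow
  exact ⟨P, (eq_of_le_of_card_ge hP (by rw [hS, h.cP])).symm⟩

theorem sub (L : Subgroup G) (h2 : p ^ 2 ∣ Nat.card L) : Q0 L p a := by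
  refine ⟨h.e, h.a3, (card_subgroup_dvd_card L).trans h.dv, h2, fun S hS x hx => ?_⟩
  obtain ⟨y, hy, e⟩ := h.self (S.map L.subtype) (by rwa [card_subtype]) (x := x) (by
    rintro _ ⟨z, hz, rfl⟩
    exact congrArg Subtype.val (hx z hz))
  rwa [← Subtype.ext e]

theorem lemA {U R : Subgroup G} (hU : IsPGroup p U) (hn : U ≤ normalizer (R : Set G)) {r : ℕ}
    (hr : r.Prime) (hrp : r ≠ p) (hR : IsPGroup r R) : R ≤ centralizer (U : Set G) ∨
      (r = 2 ∧ (∃ b, 2 ^ b = p + 1) ∧ (centralizer (U : Set G)).relIndex R = p + 1) := by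
  haveI := Fact.mk hr
  have h1 := cong hU hn
  have h2 := H1.card_inf_mul_relIndex (centralizer (U : Set G)) R
  rw [inf_comm] at h2
  obtain ⟨n, hn⟩ := hR.exists_card_eq
  obtain ⟨b, -, hb⟩ := (Nat.dvd_prime_pow hr).1 (hn ▸ Dvd.intro_left _ h2)
  obtain ⟨c, -, hc⟩ := (Nat.dvd_prime_pow hr).1 (hn ▸ Dvd.intro _ h2)
  by_cases b0 : b = 0
  · left
    rwa [b0, pow_zero, relIndex_eq_one] at hb
  right
  have h3 : r ^ b ≡ 1 [MOD p] := by
    rw [← h2, hb, hc] at h1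
    exact Nat.ModEq.cancel_left_of_coprime (c := r ^ c)
      (((Nat.coprime_primes hp.out hr).2 hrp.symm).pow_right c) (by rwa [mul_one])
  obtain ⟨rfl, h4⟩ := ar1 h.e h.a3 hr
    (hb ▸ (Dvd.intro_left _ h2).trans ((card_subgroup_dvd_card R).trans h.dv)) h3 b0
  exact ⟨rfl, ⟨b, h4⟩, hb.trans h4⟩

theorem cbot {S K : Subgroup G} (hS : Nat.card S = p ^ 2) (hK : ¬ p ∣ Nat.card K) :
    K ⊓ centralizer (S : Set G) = ⊥ :=
  le_bot_iff.1 ((inf_le_inf_left K (h.self S hS)).trans (ncop hK (IsPGroup.of_card hS)).le)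

theorem inv_card {S K : Subgroup G} (hS : Nat.card S = p ^ 2) (hn : S ≤ normalizer (K : Set G))
    (hK : ¬ p ∣ Nat.card K) (h1 : K ≠ ⊥) : Nat.card K = p + 1 ∧ ∃ b, 2 ^ b = p + 1 := by
  have pS := IsPGroup.of_card hS
  have key : ∀ (r : ℕ) (R : Subgroup G), r.Prime → IsPGroup r R → R ≤ K → R ≠ ⊥ →
      S ≤ normalizer (R : Set G) → r = 2 ∧ Nat.card R = p + 1 ∧ ∃ b, 2 ^ b = p + 1 := by
    intro r R hr hR hle h2 h3
    have h4 : ¬ p ∣ Nat.card R := fun h5 => hK (h5.trans (card_dvd_of_le hle))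
    have h6 := h.cbot hS h4
    rcases h.lemA pS h3 hr (by
      rintro rfl
      exact h2 (by simpa using ncop h4 hR)) hR with h5 | ⟨h5, h7, h8⟩
    · exact absurd ((inf_of_le_left h5).symm.trans h6) h2
    · have h9 := H1.card_inf_mul_relIndex (centralizer (S : Set G)) R
      rw [inf_comm, h6, card_bot, one_mul, h8] at h9
      exact ⟨h5, h9.symm, h7⟩
  refine (key 2 K Nat.prime_two (IsPGroup.of_card (Nat.eq_prime_pow_of_unique_prime_dvd
    Nat.card_pos.ne' fun {r} hr hd => ?_)) le_rfl h1 hn).2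
  haveI := Fact.mk hr
  have := pS.isNilpotent
  obtain ⟨R, hR, h2⟩ := H2.exists_invariant_sylowIn hn
    (hS ▸ ((Nat.Prime.coprime_iff_not_dvd hp.out).2 hK).pow_left 2) (Or.inl inferInstance) r
  exact (key r R hr hR.isPGroup hR.le (hR.ne_bot hd) h2).1

section Mersenne

variable {P R : Subgroup G} (hP : Nat.card P = p ^ 2) (hn : P ≤ normalizer (R : Set G))
  (hR : Nat.card R = p + 1)
include hP hn hR

theorem tr {k : G} (hk : k ∈ R) (k1 : k ≠ 1) : Nat.card ↥(centralizer {k} ⊓ P) = p ∧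
    ∀ k' ∈ R, k' ≠ 1 → ∃ v ∈ P, v * k * v⁻¹ = k' := by
  letI : MulAction P G := MulAction.compHom G ((MulAut.conj (G := G)).comp P.subtype)
  have h1 : MulAction.stabilizer P k = (centralizer {k}).subgroupOf P := by
    ext v
    rw [mem_subgroupOf, mem_centralizer_singleton_iff]
    exact mul_inv_eq_iff_eq_mul
  have h2 := MulAction.index_stabilizer P k
  have h3 : MulAction.orbit P k ⊆ (R : Set G) \ {1} := by
    rintro _ ⟨v, rfl⟩
    refine ⟨(mem_normalizer_iff.1 (hn v.2) k).1 hk, fun e => k1 ?_⟩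
    have : (v : G) * k * (v : G)⁻¹ = 1 := e
    simpa using this
  have h4 : ((R : Set G) \ {1}).ncard = p := by
    rw [Set.ncard_sdiff_singleton_of_mem (by simp), ← Nat.card_coe_set_eq]
    exact congrArg (· - 1) hR
  have h5 := Set.ncard_le_ncard h3
  have h6 := H1.card_inf_mul_relIndex (centralizer {k}) P
  rw [h1] at h2
  change (centralizer {k}).relIndex P = _ at h2
  obtain ⟨i, hi, h7⟩ := (Nat.dvd_prime_pow hp.out).1 (hP ▸ Dvd.intro_left _ h6)
  have h8 : (centralizer {k}).relIndex P = p := by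
    have := hp.out.one_lt
    interval_cases i
    · rw [pow_zero, relIndex_eq_one] at h7
      have : k ∈ R ⊓ centralizer (P : Set G) :=
        ⟨hk, fun v hv => mem_centralizer_singleton_iff.1 (h7 hv)⟩
      rw [h.cbot hP (hR ▸ not_dvd_succ)] at this
      exact absurd this k1
    · rw [h7, pow_one]
    · rw [← h2, h7, h4] at h5
      nlinarith
  refine ⟨Nat.eq_of_mul_eq_mul_right hp.out.pos (by rw [← sq, ← hP, ← h6, h8]),
    fun k' hk' k1' => ?_⟩
  obtain ⟨v, hv⟩ : k' ∈ MulAction.orbit P k := by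
    rw [Set.eq_of_subset_of_ncard_le h3 (by rw [h4, ← h2, h8])]
    exact ⟨hk', k1'⟩
  exact ⟨v, v.2, hv⟩

theorem cR {k : G} (hk : k ∈ R) (k1 : k ≠ 1) {w : G} (hw : w ∈ P) (e : w * k = k * w) {k' : G}
    (hk' : k' ∈ R) : w * k' = k' * w := by
  by_cases k1' : k' = 1
  · simp [k1']
  obtain ⟨v, hv, rfl⟩ := (h.tr hP hn hR hk k1).2 k' hk' k1'
  have := comm hP hw hv
  calc w * (v * k * v⁻¹) = v * (w * k) * v⁻¹ := by rw [← mul_assoc, ← mul_assoc, this]; group
    _ = v * k * (w * v⁻¹) := by rw [e]; group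
    _ = v * k * v⁻¹ * w := by rw [comm hP hw (inv_mem hv)]; group

theorem sq1 {k : G} (hk : k ∈ R) : k * k = 1 := by
  obtain ⟨t, ht, ot⟩ := H1.exists_mem_orderOf_eq_prime (H := R) Nat.prime_two
    (by rw [hR, h.e]; omega)
  by_cases k1 : k = 1
  · simp [k1]
  obtain ⟨v, -, rfl⟩ := (h.tr hP hn hR ht (by rintro rfl; simp at ot)).2 k hk k1
  have : t * t = 1 := by rw [← sq, ← ot, pow_orderOf_eq_one]
  calc _ = v * (t * t) * v⁻¹ := by group
    _ = 1 := by rw [this]; group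

theorem cmR {k k' : G} (hk : k ∈ R) (hk' : k' ∈ R) : k * k' = k' * k := by
  rw [← inv_eq_of_mul_eq_one_right (h.sq1 hP hn hR (mul_mem hk hk')), mul_inv_rev,
    inv_eq_of_mul_eq_one_right (h.sq1 hP hn hR hk), inv_eq_of_mul_eq_one_right (h.sq1 hP hn hR hk')]

theorem b4 {b : ℕ} (hb : 2 ^ b = p + 1) : 4 ∣ p + 1 := by
  have h1 : 2 ≤ b := by
    by_contra h1
    have := h.a3
    have := h.e
    have : b ≤ 1 := by omega
    interval_cases b <;> omega
  exact hb ▸ pow_dvd_pow 2 h1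

theorem fr {b : ℕ} (hb : 2 ^ b = p + 1) {g : G} (hg : g ∈ normalizer (R : Set G)) :
    ∃ n ∈ normalizer (P : Set G), ∃ k ∈ R, g = n * k := by
  set L := normalizer (R : Set G) with hL
  have hRL : R ≤ L := le_normalizer
  have cP' : Nat.card (P.subgroupOf L) = p ^ 2 := by rw [H1.card_subgroupOf_of_le hn, hP]
  have cR' : Nat.card (R.subgroupOf L) = p + 1 := by rw [H1.card_subgroupOf_of_le hRL, hR]
  have hq := h.sub L (hP ▸ card_dvd_of_le hn)
  have s1 : Group.IsSolvable (L ⧸ R.subgroupOf L) := solv4 fun h4 => arM h.e (h.b4 hP hn hR hb) (by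
    refine Dvd.dvd.trans ?_ hq.dv
    rw [card_eq_card_quotient_mul_card_subgroup (R.subgroupOf L), cR']
    exact mul_dvd_mul_right h4 _)
  haveI := Fact.mk Nat.prime_two
  have := (IsPGroup.of_card (cR'.trans hb.symm)).isNilpotent
  have := Group.isSolvable_of_ker_le_range (R.subgroupOf L).subtype
    (QuotientGroup.mk' (R.subgroupOf L)) (by simp)
  obtain ⟨S, hS⟩ := hq.syl cP'
  have h1 := Cfsg.Agent.S0018.result p S
    (IsPGroup.isMulCommutative_of_card_eq_prime_sq (hq.cP S))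
  have h2 : R.subgroupOf L ≤ pPrimeCore p L := H1.le_pPrimeCore_of_not_dvd (cR' ▸ not_dvd_succ)
  have h3 : R.subgroupOf L = pPrimeCore p L := eq_of_le_of_card_ge h2 (by
    rw [cR', (hq.inv_card cP' le_normalizer_of_normal H1.not_dvd_card_pPrimeCore fun e => by
      rw [e, le_bot_iff] at h2
      rw [h2, card_bot] at cR'
      have := hp.out.pos
      omega).1])
  have h4 := S.normalizer_sup_eq_top' (le_sup_left : _ ≤ (S : Subgroup L) ⊔ pPrimeCore p L)
  rw [← sup_assoc, sup_of_le_left (show (S : Subgroup L) ≤ normalizer (S : Set L) from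
    le_normalizer), ← h3] at h4
  obtain ⟨n, hn', k, hk, e⟩ := mem_sup_of_normal_right.1 (h4.ge (mem_top (⟨g, hg⟩ : L)))
  refine ⟨n, ?_, k, hk, (congrArg Subtype.val e).symm⟩
  rw [← S.coe_coe, hS, ← subgroupOf_normalizer_eq hn] at hn'
  exact hn'

theorem mersX : ∃ w ∈ P, w ≠ 1 ∧ ∀ k ∈ R, w * k = k * w := by
  have := hp.out.one_lt
  obtain ⟨⟨k, hk⟩, k1⟩ := ne_bot_iff_exists_ne_one.1 ((one_lt_card_iff_ne_bot R).1 (by omega))
  have k1' : k ≠ 1 := fun e => k1 (Subtype.ext e)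
  obtain ⟨⟨w, hw⟩, w1⟩ := ne_bot_iff_exists_ne_one.1 ((one_lt_card_iff_ne_bot _).1
    ((h.tr hP hn hR hk k1').1 ▸ this))
  exact ⟨w, hw.2, fun e => w1 (Subtype.ext e), fun k' hk' =>
    h.cR hP hn hR hk k1' hw.2 (mem_centralizer_singleton_iff.1 hw.1) hk'⟩

theorem two_fix {t : G} (ht : t ∈ normalizer (R : Set G)) (h2 : t * t ∈ R) :
    ∃ k ∈ R, ∃ k' ∈ R, k ≠ 1 ∧ k' ≠ 1 ∧ k ≠ k' ∧ t * k = k * t ∧ t * k' = k' * t := by
  classical
  have cj : ∀ {u}, u ∈ R → t * u * t⁻¹ ∈ R := fun hu => (mem_normalizer_iff.1 ht _).1 hu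
  let φ : R →* R := MonoidHom.mk' (fun k => ⟨k * (t * k * t⁻¹), mul_mem k.2 (cj k.2)⟩)
    fun x y => Subtype.ext (by
      have := h.cmR hP hn hR y.2 (cj x.2)
      change (x : G) * y * (t * (x * y) * t⁻¹) = x * (t * x * t⁻¹) * (y * (t * y * t⁻¹))
      rw [mul_assoc (x : G) (t * x * t⁻¹), ← mul_assoc (t * x * t⁻¹), ← this]
      group)
  let C := (centralizer {t}).subgroupOf R
  have h3 : φ.ker ≤ C := fun k hk => by
    have e : (k : G) * (t * k * t⁻¹) = 1 := congrArg Subtype.val hk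
    rw [← h.sq1 hP hn hR k.2, mul_right_inj, mul_inv_eq_iff_eq_mul] at e
    exact mem_centralizer_singleton_iff.2 e.symm
  have h4 : φ.range ≤ C := by
    rintro _ ⟨k, rfl⟩
    refine mem_centralizer_singleton_iff.2 ?_
    change (k : G) * (t * k * t⁻¹) * t = t * (k * (t * k * t⁻¹))
    have e := h.cmR hP hn hR k.2 h2
    calc _ = t * (t⁻¹ * k * t) * k := by group
      _ = t * (t⁻¹ * (k * (t * t)) * t⁻¹) * k := by group
      _ = t * ((t * k * t⁻¹) * k) := by rw [e]; group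
      _ = _ := by rw [h.cmR hP hn hR k.2 (cj k.2)]
  have h5 := φ.ker.card_mul_index
  rw [index_ker, hR] at h5
  have h6 := Nat.mul_le_mul (card_le_of_le h3) (card_le_of_le h4)
  have h7 : 2 < Nat.card C := by
    have := h.a3
    have := h.e
    by_contra h8
    have := Nat.mul_le_mul (not_lt.1 h8) (not_lt.1 h8)
    omega
  haveI := Fintype.ofFinite C
  obtain ⟨x, y, z, xy, xz, yz⟩ := Fintype.two_lt_card_iff.1 (Nat.card_eq_fintype_card (α := C) ▸ h7)
  have inj : ∀ {u v : C}, ((u : R) : G) = (v : R) → u = v := fun e => Subtype.ext (Subtype.ext e)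
  exact ⟨_, (x⁻¹ * y : C).1.2, _, (x⁻¹ * z : C).1.2, fun e => xy (inv_mul_eq_one.1 (inj e)),
    fun e => xz (inv_mul_eq_one.1 (inj e)), fun e => yz (mul_left_cancel (inj e)),
    (mem_centralizer_singleton_iff.1 (x⁻¹ * y : C).2).symm,
    (mem_centralizer_singleton_iff.1 (x⁻¹ * z : C).2).symm⟩

theorem mersT {b : ℕ} (hb : 2 ^ b = p + 1) {t : G} (ht : t ∈ normalizer (R : Set G))
    (h2 : t * t ∈ R) {k : G} (hk : k ∈ R) : t * k = k * t := by
  by_cases e1 : k = 1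
  · simp [e1]
  obtain ⟨k1, m1, k2, m2, n1, n2, n3, c1, c2⟩ := h.two_fix hP hn hR ht h2
  obtain ⟨n, hnP, k0, m0, rfl⟩ := h.fr hP hn hR hb ht
  have sw : ∀ {u}, u ∈ R → (n * k0 * u = u * (n * k0) ↔ n * u * n⁻¹ = u) := fun {u} hu => by
    rw [mul_assoc, h.cmR hP hn hR m0 hu, ← mul_assoc, ← mul_assoc, mul_left_inj,
      mul_inv_eq_iff_eq_mul]
  rw [sw m1] at c1
  rw [sw m2] at c2
  rw [sw hk]
  obtain ⟨hX, tr⟩ := h.tr hP hn hR m1 n1
  obtain ⟨v, hv, e⟩ := tr k2 m2 n2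
  obtain ⟨w, hw, rfl⟩ := tr k hk e1
  have cj : ∀ {u}, u ∈ P → n * u * n⁻¹ ∈ P := fun hu => (mem_normalizer_iff.1 hnP _).1 hu
  have h3 := triv_mod hP hX inf_le_right hnP (fun u hu => ⟨mem_centralizer_singleton_iff.2 (by
      have := mem_centralizer_singleton_iff.1 hu.1
      calc n * u * n⁻¹ * k1 = n * u * n⁻¹ * (n * k1 * n⁻¹) := by rw [c1]
        _ = n * (u * k1) * n⁻¹ := by group
        _ = (n * k1 * n⁻¹) * (n * u * n⁻¹) := by rw [this]; group
        _ = _ := by rw [c1]), cj hu.2⟩) hv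
    (fun hvX => n3 (by rw [← e, mem_centralizer_singleton_iff.1 hvX.1]; group))
    ⟨mem_centralizer_singleton_iff.2 (by
      calc v⁻¹ * (n * v * n⁻¹) * k1 = v⁻¹ * (n * v * n⁻¹) * (n * k1 * n⁻¹) := by rw [c1]
        _ = v⁻¹ * (n * (v * k1 * v⁻¹) * n⁻¹) * (n * v * n⁻¹) := by group
        _ = v⁻¹ * (v * k1 * v⁻¹) * (n * v * n⁻¹) := by rw [e, c2]
        _ = _ := by group), P.mul_mem (P.inv_mem hv) (cj hv)⟩ hw
  have h4 := mem_centralizer_singleton_iff.1 h3.1
  calc n * (w * k1 * w⁻¹) * n⁻¹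
      = w * (w⁻¹ * (n * w * n⁻¹) * (n * k1 * n⁻¹)) * (n * w * n⁻¹)⁻¹ := by group
    _ = _ := by rw [c1, h4]; group

theorem mersS {b : ℕ} (hb : 2 ^ b = p + 1) {S : Subgroup G} (hS : IsPGroup 2 S) (hle : R ≤ S) :
    IsMulCommutative S := by
  haveI := Fact.mk Nat.prime_two
  have h1 := H1.card_mul_relIndex_of_le hle
  obtain ⟨m, hm⟩ := hS.exists_card_eq
  obtain ⟨i, -, hi⟩ := (Nat.dvd_prime_pow Nat.prime_two).1 (hm ▸ Dvd.intro_left _ h1)
  have h2 : i ≤ 1 := by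
    by_contra h2
    refine arM h.e (h.b4 hP hn hR hb) (Dvd.dvd.trans ?_ ((card_subgroup_dvd_card S).trans h.dv))
    rw [← h1, hR, hi, mul_comm]
    exact mul_dvd_mul_left _ (pow_dvd_pow 2 (show 2 ≤ i by omega))
  refine ⟨⟨fun x y => Subtype.ext ?_⟩⟩
  interval_cases i
  · rw [pow_zero, relIndex_eq_one] at hi
    exact h.cmR hP hn hR (hi x.2) (hi y.2)
  have h3 : (R.subgroupOf S).index = 2 := hi
  have h4 : S ≤ normalizer (R : Set G) :=
    (normal_subgroupOf_iff_le_normalizer hle).1 (normal_of_index_eq_two h3)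
  have h5 : ∀ (t : S) {k}, k ∈ R → (t : G) * k = k * t := fun t k hk =>
    h.mersT hP hn hR hb (h4 t.2) (mul_self_mem_of_index_two h3 t) hk
  by_cases hx : x ∈ R.subgroupOf S
  · exact (h5 y hx).symm
  by_cases hy : y ∈ R.subgroupOf S
  · exact h5 x hy
  have h6 : x⁻¹ * y ∈ R.subgroupOf S := (mul_mem_iff_of_index_two h3).2 (by simp [hx, hy])
  have h7 := h5 x h6
  change (x : G) * ((x : G)⁻¹ * y) = (x : G)⁻¹ * y * x at h7
  change (x : G) * y = y * x
  calc (x : G) * y = x * ((x : G)⁻¹ * y * x) := by rw [← h7]; group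
    _ = _ := by group

end Mersenne

end Q0

end H15.L2S
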