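import Mathlib
import Cfsg.Agent.Lib.L2Sq.B

/-! A character of degree `p²` vanishing on the `p`-singular elements. -/

set_option autoImplicit false
set_option linter.unusedSectionVars false
set_option linter.style.haveILetI false

namespace H15.L2S

open Subgroup Cfsg Module

variable {G : Type*} [Group G] {V : Type*} [AddCommGroup V] [Module ℂ V] [FiniteDimensional ℂ V]

/-- the elements acting as scalars -/
def Zs (ρ : Representation ℂ G V) [Nontrivial V] : Subgroup G where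
  carrier := {g | ∃ c : ℂ, c ≠ 0 ∧ ρ g = c • 1}
  one_mem' := ⟨1, one_ne_zero, by simp⟩
  mul_mem' := by
    rintro x y ⟨c, c0, hc⟩ ⟨d, d0, hd⟩
    exact ⟨c * d, mul_ne_zero c0 d0, by rw [map_mul, hc, hd, smul_mul_smul_comm, mul_one]⟩
  inv_mem' := by
    rintro x ⟨c, c0, hc⟩
    refine ⟨c⁻¹, inv_ne_zero c0, ?_⟩
    have : ρ x * ρ x⁻¹ = 1 := by rw [← map_mul, mul_inv_cancel, map_one]
    rw [← this, hc, smul_mul_assoc, one_mul, smul_smul, inv_mul_cancel₀ c0, one_smul]

instance (ρ : Representation ℂ G V) [Nontrivial V] : (Zs ρ).Normal := ⟨by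
  rintro x ⟨c, c0, hc⟩ g
  exact ⟨c, c0, by rw [map_mul, map_mul, hc, mul_smul_comm, mul_one, smul_mul_assoc, ← map_mul,
    mul_inv_cancel, map_one]⟩⟩

theorem avg {A : Type*} [Group A] [Fintype A] (σ : Representation ℂ A V) :
    ∑ g : A, σ.character g = Nat.card A * finrank ℂ σ.invariants := by
  have h0 : (Nat.card A : ℂ) ≠ 0 := Nat.cast_ne_zero.2 Nat.card_pos.ne'
  letI := invertibleOfNonzero h0
  rw [← σ.card_inv_mul_sum_char_eq_finrank, mul_inv_cancel_left₀ h0]

theorem mem_of_cop {S : Subgroup G} {x : G} {m n : ℕ} (h : Nat.Coprime m n) (h1 : x ^ m ∈ S)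
    (h2 : x ^ n ∈ S) : x ∈ S := by
  have h3 := S.mul_mem (S.zpow_mem h1 (Nat.gcdA m n)) (S.zpow_mem h2 (Nat.gcdB m n))
  rwa [← zpow_natCast, ← zpow_natCast, ← zpow_mul, ← zpow_mul, ← zpow_add, ← Nat.gcd_eq_gcd_ab,
    h, Nat.cast_one, zpow_one] at h3

variable [Finite G] {p a : ℕ} [hp : Fact p.Prime] [Nontrivial V] {ρ : Representation ℂ G V}
  (hV : finrank ℂ V = p ^ 2) (van : ∀ x : G, p ∣ orderOf x → ρ.character x = 0)

theorem sing {S : Subgroup G} (hS : IsPGroup p S) {u : S} (u1 : u ≠ 1) : p ∣ orderOf (u : G) := by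
  obtain ⟨k, hk⟩ := IsPGroup.iff_orderOf.1 hS u
  rw [Subgroup.orderOf_coe, hk]
  exact dvd_pow_self p fun e => u1 (orderOf_eq_one_iff.1 (by rw [hk, e, pow_zero]))

include hV van

theorem z1 : ¬ p ∣ Nat.card (Zs ρ) := fun h => by
  obtain ⟨g, ⟨c, c0, hc⟩, og⟩ := H1.exists_mem_orderOf_eq_prime hp.out h
  have := van g og.symm.dvd
  rw [Representation.character, hc, map_smul, LinearMap.trace_one, hV] at this
  simp [c0, hp.out.ne_zero] at this

theorem z2 {S : Subgroup G} (hS : Nat.card S = p ^ 2) {d : G} (hd : d ∈ centralizer (S : Set G))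
    (od : ¬ p ∣ orderOf d) : d ∈ Zs ρ := by
  classical
  obtain ⟨c, hc⟩ := Module.End.exists_eigenvalue (ρ d)
  obtain ⟨v, hv⟩ := hc.exists_hasEigenvector
  have h1 : c ^ orderOf d = 1 := by
    have := hv.pow_apply (orderOf d)
    rw [← map_pow, pow_orderOf_eq_one, map_one] at this
    exact smul_left_injective ℂ hv.2 (by simpa using this.symm)
  have c0 : c ≠ 0 := by
    rintro rfl
    rw [zero_pow (orderOf_pos d).ne'] at h1
    exact zero_ne_one h1
  let T : (End ℂ V)ˣ := ⟨c⁻¹ • ρ d, c • ρ d⁻¹, by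
    rw [smul_mul_smul_comm, ← map_mul, inv_mul_cancel₀ c0]; simp, by
    rw [smul_mul_smul_comm, ← map_mul, mul_inv_cancel₀ c0]; simp⟩
  have hT : ∀ n : ℕ, ((T ^ n : (End ℂ V)ˣ) : End ℂ V) = c⁻¹ ^ n • ρ (d ^ n) := fun n => by
    rw [Units.val_pow_eq_pow_val, map_pow]
    exact smul_pow _ _ _
  have fT : IsOfFinOrder T := isOfFinOrder_iff_pow_eq_one.2 ⟨orderOf d, orderOf_pos d, Units.ext (by
    rw [hT, inv_pow, h1, pow_orderOf_eq_one]; simp)⟩
  have ex : ∀ t : zpowers T, ∃ n : ℕ, ((t : (End ℂ V)ˣ) : End ℂ V) = c⁻¹ ^ n • ρ (d ^ n) :=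
    fun t => by
      obtain ⟨n, hn⟩ := fT.mem_powers_iff_mem_zpowers.2 t.2
      exact ⟨n, by rw [← hn]; exact hT n⟩
  haveI : Finite (zpowers T) := finite_zpowers.2 fT
  haveI := Fintype.ofFinite (zpowers T)
  haveI := Fintype.ofFinite S
  have cm : ∀ (u : S) (n : ℕ), Commute (u : G) (d ^ n) := fun u n => Commute.pow_right (hd u u.2) n
  let τ : Representation ℂ (zpowers T) V := (Units.coeHom _).comp (zpowers T).subtype
  let σ : Representation ℂ (S × zpowers T) V := MonoidHom.noncommCoprod (ρ.comp S.subtype) τ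
    fun u t => by
      obtain ⟨n, hn⟩ := ex t
      change Commute (ρ u) ((t : (End ℂ V)ˣ) : End ℂ V)
      rw [hn]
      exact ((cm u n).map ρ).smul_right _
  have h2 := avg σ
  rw [Fintype.sum_prod_type, Finset.sum_eq_single 1 (fun u _ u1 => Finset.sum_eq_zero fun t _ => by
    obtain ⟨n, hn⟩ := ex t
    change LinearMap.trace ℂ V (ρ u * ((t : (End ℂ V)ˣ) : End ℂ V)) = 0
    rw [hn, mul_smul_comm, map_smul, ← map_mul]
    refine smul_eq_zero_of_right _ (van _ ?_)
    obtain ⟨k, hk⟩ := IsPGroup.iff_orderOf.1 (IsPGroup.of_card hS) u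
    rw [(cm u n).orderOf_mul_eq_mul_orderOf_of_coprime (by
      rw [Subgroup.orderOf_coe, hk]
      exact ((Nat.Prime.coprime_iff_not_dvd hp.out).2 fun e =>
        od (e.trans (orderOf_pow_dvd n))).pow_left k)]
    exact (sing (IsPGroup.of_card hS) u1).mul_right _) (by simp),
    Finset.sum_congr rfl fun t _ => show σ.character (1, t) = τ.character t by
      simp [σ, Representation.character], avg τ, Nat.card_prod, hS] at h2
  have h3 : finrank ℂ τ.invariants = p ^ 2 * finrank ℂ σ.invariants := by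
    have h3 : Nat.card (zpowers T) * finrank ℂ τ.invariants =
        p ^ 2 * Nat.card (zpowers T) * finrank ℂ σ.invariants := by exact_mod_cast h2
    exact Nat.eq_of_mul_eq_mul_left (Nat.card_pos (α := zpowers T)) (by rw [h3]; ring)
  have h4 : v ∈ τ.invariants := fun t => by
    obtain ⟨n, hn⟩ := ex t
    change ((t : (End ℂ V)ˣ) : End ℂ V) v = v
    rw [hn, map_pow, LinearMap.smul_apply, hv.pow_apply, smul_smul, ← mul_pow,
      inv_mul_cancel₀ c0, one_pow, one_smul]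
  have h5 : τ.invariants = ⊤ := Submodule.eq_top_of_finrank_eq (le_antisymm
    (Submodule.finrank_le _) (by
      rw [hV, h3]
      refine Nat.le_mul_of_pos_right _ (Nat.pos_of_ne_zero fun e => hv.2 ?_)
      rw [e, mul_zero, Submodule.finrank_eq_zero] at h3
      exact (Submodule.mem_bot ℂ).1 (h3 ▸ h4)))
  refine ⟨c, c0, LinearMap.ext fun w => ?_⟩
  have h6 : (c⁻¹ • ρ d) w = w := h5.ge (Submodule.mem_top (x := w)) ⟨T, mem_zpowers T⟩
  rw [LinearMap.smul_apply, inv_smul_eq_iff₀ c0] at h6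
  exact h6

theorem z3 [ρ.IsIrreducible] : pCore p (G ⧸ Zs ρ) = ⊥ := by
  classical
  set W := (pCore p (G ⧸ Zs ρ)).comap (QuotientGroup.mk' (Zs ρ)) with hW
  obtain ⟨U, hU⟩ := H68.exists_sylowIn p W
  have h0 : Zs ρ ≤ W := QuotientGroup.le_comap_mk' _ _
  have h1 : W ≤ U ⊔ Zs ρ := by
    obtain ⟨n, hn⟩ := (H1.isPGroup_pCore (p := p) (G := G ⧸ Zs ρ)).exists_card_eq
    have h2 := H1.card_mul_relIndex_of_le h0
    rw [hW, H1.card_comap_mk', hn, mul_comm, ← hW] at h2
    exact relIndex_eq_one.1 (Nat.eq_one_of_dvd_coprimes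
      (((Nat.Prime.coprime_iff_not_dvd hp.out).2 hU.not_dvd_relIndex).pow_left n)
      (Nat.eq_of_mul_eq_mul_right Nat.card_pos h2 ▸ relIndex_dvd_of_le_left _ le_sup_right)
      (relIndex_dvd_of_le_left _ le_sup_left))
  let τ : Representation ℂ U V := ρ.comp U.subtype
  let X : Subrepresentation ρ := ⟨τ.invariants, fun g w hw u => by
    obtain ⟨x, hx, n, hn, rfl⟩ := hU.frattini' (le_normalizer_of_normal (mem_top g))
    obtain ⟨y, hy, z, ⟨c, -, hc⟩, rfl⟩ := mem_sup_of_normal_right.1 (h1 hn)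
    have h2 : ρ y w = w := hw ⟨y, hy⟩
    have h3 : ρ (x⁻¹ * u * x⁻¹⁻¹) w = w := hw ⟨_, (mem_normalizer_iff.1 (inv_mem hx) _).1 u.2⟩
    have h4 : ρ (x * (y * z)) w = c • ρ x w := by
      rw [map_mul, map_mul, hc]; simp [h2]
    change ρ u _ = _
    rw [h4, map_smul, ← Module.End.mul_apply, ← map_mul,
      show u * x = x * (x⁻¹ * u * x⁻¹⁻¹) by group, map_mul, Module.End.mul_apply, h3]⟩
  rcases eq_bot_or_eq_top X with h2 | h2
  · haveI := Fintype.ofFinite U
    have h3 : τ.invariants = ⊥ := congrArg Subrepresentation.toSubmodule h2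
    have h4 := avg τ
    rw [h3, Finset.sum_eq_single (f := τ.character) 1
      (fun u _ u1 => van _ (sing hU.isPGroup u1)) (by simp), Representation.char_one, hV] at h4
    simp [hp.out.ne_zero] at h4
  · have h3 : τ.invariants = ⊤ := congrArg Subrepresentation.toSubmodule h2
    have h4 : U ≤ Zs ρ := fun u hu => ⟨1, one_ne_zero, LinearMap.ext fun w => by
      rw [one_smul]
      exact h3.ge (Submodule.mem_top (x := w)) ⟨u, hu⟩⟩
    rw [sup_of_le_right h4] at h1
    rw [eq_bot_iff]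
    intro x hx
    obtain ⟨g, rfl⟩ := QuotientGroup.mk'_surjective _ x
    exact (QuotientGroup.eq_one_iff g).2 (h1 hx)

theorem q0 (e : p = 2 * a + 1) (a3 : 3 ≤ a) (hG : Nat.card G = p ^ 2 * mm a) :
    Q0 (G ⧸ Zs ρ) p a := by
  have hZ := z1 hV van
  have cZ := (Nat.Prime.coprime_iff_not_dvd hp.out).2 hZ
  have h0 := card_eq_card_quotient_mul_card_subgroup (Zs ρ)
  refine ⟨e, a3, hG ▸ Dvd.intro _ h0.symm, (cZ.pow_left 2).dvd_of_dvd_mul_right
    (h0 ▸ Dvd.intro _ hG.symm), fun S hS g hg => ?_⟩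
  obtain ⟨g, rfl⟩ := QuotientGroup.mk'_surjective _ g
  set W := S.comap (QuotientGroup.mk' (Zs ρ)) with hW
  have h1 : Zs ρ ≤ W := QuotientGroup.le_comap_mk' _ _
  have cW : Nat.card W = p ^ 2 * Nat.card (Zs ρ) := by rw [hW, H1.card_comap_mk', hS]
  have le2 : ∀ U : Subgroup G, IsPGroup p U → Nat.card U ∣ p ^ 2 := fun U hU => by
    obtain ⟨n, hn⟩ := hU.exists_card_eq
    have := card_subgroup_dvd_card U
    rw [hG, hn] at this
    rw [hn]
    exact ((cop e).pow_left n).dvd_of_dvd_mul_right this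
  obtain ⟨P, hP⟩ := H68.exists_sylowIn p W
  have cP : Nat.card P = p ^ 2 := Nat.dvd_antisymm (le2 P hP.isPGroup) (by
    have := H1.card_mul_relIndex_of_le hP.le
    exact (((Nat.Prime.coprime_iff_not_dvd hp.out).2 hP.not_dvd_relIndex).pow_left
      2).dvd_of_dvd_mul_right (this ▸ Dvd.intro _ cW.symm))
  obtain ⟨x, hx, n, hn, rfl⟩ := hP.frattini' (g := g) (mem_normalizer_iff.2 fun w => by
    rw [hW, mem_comap, mem_comap, map_mul, map_mul, map_inv]
    exact mem_normalizer_iff.1 (centralizer_le_normalizer _ hg) _)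
  have h2 : x ∈ centralizer (P : Set G) := fun v hv => by
    have h3 : x * v * x⁻¹ * v⁻¹ ∈ Zs ρ ⊓ P := by
      refine ⟨(QuotientGroup.eq_one_iff _).1 ?_,
        P.mul_mem ((mem_normalizer_iff.1 hx v).1 hv) (P.inv_mem hv)⟩
      have h4 := hg _ (hP.le hv)
      rw [map_mul, mul_assoc, comm hS hn (hP.le hv), ← mul_assoc, ← mul_assoc, mul_left_inj] at h4
      change QuotientGroup.mk' (Zs ρ) _ = 1
      rw [map_mul, map_mul, map_mul, map_inv, map_inv, ← h4]
      group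
    rw [ncop hZ hP.isPGroup, mem_bot, mul_inv_eq_one, mul_inv_eq_iff_eq_mul] at h3
    exact h3.symm
  refine W.mul_mem ?_ hn
  obtain ⟨k, m, hm, ho⟩ := Nat.exists_eq_pow_mul_and_not_dvd (orderOf_pos x).ne' p hp.out.one_lt.ne'
  refine mem_of_cop (((Nat.Prime.coprime_iff_not_dvd hp.out).2 hm).pow_left k)
    (h1 (z2 hV van cP (pow_mem h2 _) fun h3 => hm (h3.trans (orderOf_dvd_of_pow_eq_one ?_))))
    (hP.le ?_)
  · rw [← pow_mul, ← ho, pow_orderOf_eq_one]
  · obtain ⟨j, -, hj⟩ := (Nat.dvd_prime_pow hp.out).1 (orderOf_dvd_of_pow_eq_one (x := x ^ m)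
      (n := p ^ k) (by rw [← pow_mul, mul_comm, ← ho, pow_orderOf_eq_one]))
    have h3 := (IsPGroup.of_card ((Nat.card_zpowers _).trans hj)).to_sup_of_normal_right'
      hP.isPGroup (zpowers_le.2 (pow_mem hx m))
    exact (eq_of_le_of_card_ge le_sup_right (cP ▸ Nat.le_of_dvd (pow_pos hp.out.pos 2)
      (le2 _ h3))).ge (mem_sup_left (mem_zpowers _))

end H15.L2S
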